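import Mathlib.GroupTheory.Sylow
import Mathlib.GroupTheory.QuotientGroup.Basic
import Mathlib.GroupTheory.GroupAction.Quotient
import Mathlib.GroupTheory.Subgroup.Center
import Mathlib.GroupTheory.PGroup
import Mathlib.Algebra.Group.MinimalAxioms

/-!
# Extension of a stable central extension of a Sylow subgroup (helper497, part EXT of S5242)

`θ : S →* G` with central kernel, image a Sylow `p`-subgroup, and `G`-stable.  Then there is a central extension `L` of `G` by `θ.ker`
containing `S`.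
-/

set_option autoImplicit false

namespace Cfsg.Agent.H497.FX

variable {S G : Type*} [Group S] [Group G]

/-- the centre is commutative -/
local instance commCenter {S : Type*} [Group S] : CommGroup ↥(Subgroup.center S) :=
  { (inferInstance : Group ↥(Subgroup.center S)) with
    mul_comm := fun a b => Subtype.ext (Subgroup.mem_center_iff.1 b.2 a) }

/-- the big group: pairs `(g, f)` with `g r(w) = r(g w) θ(f w)` -/
@[ext] structure E (θ : S →* G) (r : G ⧸ θ.range → G) where
  g : G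
  f : G ⧸ θ.range → S
  h : ∀ w, g * r w = r (g • w) * θ (f w)

namespace E

variable {θ : S →* G} {r : G ⧸ θ.range → G}

instance : One (E θ r) := ⟨⟨1, fun _ => 1, fun w => by rw [one_mul, one_smul, map_one, mul_one]⟩⟩

instance : Mul (E θ r) := ⟨fun a b => ⟨a.g * b.g, fun w => a.f (b.g • w) * b.f w, fun w => by
  rw [mul_assoc, b.h w, ← mul_assoc, a.h, map_mul, mul_smul, mul_assoc]⟩⟩

instance : Inv (E θ r) := ⟨fun a => ⟨a.g⁻¹, fun w => (a.f (a.g⁻¹ • w))⁻¹, fun w => by
  have h1 := a.h (a.g⁻¹ • w)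
  rw [smul_inv_smul] at h1
  rw [map_inv, eq_mul_inv_iff_mul_eq, mul_assoc, ← h1, inv_mul_cancel_left]⟩⟩

theorem one_g : (1 : E θ r).g = 1 := rfl
theorem one_f (w) : (1 : E θ r).f w = 1 := rfl
theorem mul_g (a b : E θ r) : (a * b).g = a.g * b.g := rfl
theorem mul_f (a b : E θ r) (w) : (a * b).f w = a.f (b.g • w) * b.f w := rfl
theorem inv_g (a : E θ r) : (a⁻¹).g = a.g⁻¹ := rfl
theorem inv_f (a : E θ r) (w) : (a⁻¹).f w = (a.f (a.g⁻¹ • w))⁻¹ := rfl

theorem ext' {a b : E θ r} (h1 : a.g = b.g) (h2 : ∀ w, a.f w = b.f w) : a = b := E.ext h1 (funext h2)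

instance : Group (E θ r) := Group.ofLeftAxioms
  (fun a b c => ext' (mul_assoc _ _ _) fun w => by
    simp only [mul_f, mul_g, mul_smul, mul_assoc])
  (fun a => ext' (one_mul _) fun w => by rw [mul_f, one_f, one_mul])
  (fun a => ext' (inv_mul_cancel _) fun w => by
    rw [mul_f, inv_f, inv_smul_smul, inv_mul_cancel, one_f])

/-- the projection -/
def pr : E θ r →* G where
  toFun a := a.g
  map_one' := rfl
  map_mul' _ _ := rfl

instance [Finite S] [Finite G] : Finite (E θ r) :=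
  Finite.of_injective (fun a : E θ r => (a.g, a.f)) fun a b h => E.ext (congrArg Prod.fst h) (congrArg Prod.snd h)

theorem pr_surjective (hr : ∀ w, (r w : G ⧸ θ.range) = w) : Function.Surjective (pr : E θ r →* G) := by
  intro g
  have h : ∀ w : G ⧸ θ.range, ∃ s : S, θ s = (r (g • w))⁻¹ * (g * r w) := by
    intro w
    have h1 : (r (g • w) : G ⧸ θ.range) = ((g * r w : G) : G ⧸ θ.range) := by
      rw [hr, ← smul_eq_mul, ← MulAction.Quotient.smul_coe, hr]
    exact QuotientGroup.eq.1 h1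
  choose f hf using h
  exact ⟨⟨g, f, fun w => by rw [hf, mul_inv_cancel_left]⟩, rfl⟩

variable (θ r) in
/-- the subgroup divided out: kernel functions with product one -/
def K [Finite G] (hA : θ.ker ≤ Subgroup.center S) : Subgroup (E θ r) :=
  letI := Fintype.ofFinite (G ⧸ θ.range)
  { carrier := {e | e.g = 1 ∧ ∃ a : G ⧸ θ.range → Subgroup.center S, (∀ w, e.f w = a w) ∧ ∏ w, a w = 1}
    one_mem' := ⟨rfl, fun _ => 1, fun _ => rfl, by simp⟩
    mul_mem' := by
      rintro x y ⟨hx, a, ha, ha1⟩ ⟨hy, b, hb, hb1⟩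
      refine ⟨by rw [mul_g, hx, hy, one_mul], fun w => a w * b w, fun w => ?_, ?_⟩
      · rw [mul_f, hy, one_smul, ha, hb]; rfl
      · rw [Finset.prod_mul_distrib, ha1, hb1, one_mul]
    inv_mem' := by
      rintro x ⟨hx, a, ha, ha1⟩
      refine ⟨by rw [inv_g, hx, inv_one], fun w => (a w)⁻¹, fun w => ?_, ?_⟩
      · rw [inv_f, hx, inv_one, one_smul, ha]; rfl
      · rw [Finset.prod_inv_distrib, ha1, inv_one] }

theorem mem_K [Finite G] {hA : θ.ker ≤ Subgroup.center S} {e : E θ r} :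
    letI := Fintype.ofFinite (G ⧸ θ.range)
    e ∈ K θ r hA ↔ e.g = 1 ∧ ∃ a : G ⧸ θ.range → Subgroup.center S, (∀ w, e.f w = a w) ∧ ∏ w, a w = 1 := Iff.rfl

instance K_normal [Finite G] (hA : θ.ker ≤ Subgroup.center S) : (K θ r hA).Normal := by
  letI := Fintype.ofFinite (G ⧸ θ.range)
  refine ⟨?_⟩
  rintro x ⟨hx, a, ha, ha1⟩ e
  refine ⟨?_, fun w => a (e.g⁻¹ • w), fun w => ?_, ?_⟩
  · rw [mul_g, mul_g, hx, mul_one, inv_g, mul_inv_cancel]
  · rw [mul_f, mul_f, inv_f, inv_g, hx, one_smul, ha]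
    have h1 := Subgroup.mem_center_iff.1 (a (e.g⁻¹ • w)).2 (e.f (e.g⁻¹ • w))
    rw [h1, mul_inv_cancel_right]
  · rw [← ha1]
    exact Fintype.prod_equiv (MulAction.toPerm e.g⁻¹) _ _ fun w => rfl

end E

/-- the elements of `S` whose image is conjugated into `T` by `g` -/
def Dom (θ : S →* G) (g : G) : Subgroup S := θ.range.comap ((MulAut.conj g).toMonoidHom.comp θ)

theorem mem_Dom {θ : S →* G} {g : G} {x : S} : x ∈ Dom θ g ↔ g * θ x * g⁻¹ ∈ θ.range := Iff.rfl

/-- stability of the extension -/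
def Stable (θ : S →* G) : Prop :=
  ∀ g : G, ∃ φ : ↥(Dom θ g) →* S, (∀ x : ↥(Dom θ g), θ (φ x) = g * θ (x : S) * g⁻¹) ∧
    ∀ x : ↥(Dom θ g), θ (x : S) = 1 → φ x = (x : S)

section Mono

variable (θ : S →* G)

/-- orbit data for the action of `S` on `G/T` -/
theorem exists_base : ∃ (base : G ⧸ θ.range → G ⧸ θ.range) (x : G ⧸ θ.range → S),
    (∀ (s : S) w, base (θ s • w) = base w) ∧ ∀ w, θ (x w) • base w = w := by
  classical
  let R : Setoid (G ⧸ θ.range) := ⟨fun w w' => ∃ s : S, θ s • w = w',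
    ⟨fun w => ⟨1, by rw [map_one, one_smul]⟩, fun {w w'} ⟨s, h⟩ => ⟨s⁻¹, by rw [map_inv, ← h, inv_smul_smul]⟩,
      fun {a b c} ⟨s, h⟩ ⟨t, h'⟩ => ⟨t * s, by rw [map_mul, mul_smul, h, h']⟩⟩⟩
  have h1 : ∀ w, ∃ s : S, θ s • (Quotient.mk R w).out = w := fun w => Quotient.mk_out w
  choose x hx using h1
  refine ⟨fun w => (Quotient.mk R w).out, x, fun s w => ?_, hx⟩
  have h2 : Quotient.mk R (θ s • w) = Quotient.mk R w := Quotient.sound ⟨s⁻¹, by rw [map_inv, inv_smul_smul]⟩
  change (Quotient.mk R (θ s • w)).out = (Quotient.mk R w).out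
  rw [h2]

/-- a section and a lift of `S` into the big group -/
theorem exists_lift (hst : Stable θ) : ∃ (r : G ⧸ θ.range → G) (_ : ∀ w, (r w : G ⧸ θ.range) = w) (j : S →* E θ r),
    (∀ s, (j s).g = θ s) ∧ (∀ s, θ s = 1 → s ∈ Subgroup.center S → ∀ w, (j s).f w = s) := by
  classical
  obtain ⟨base, x, hb, hx⟩ := exists_base θ
  let o : G ⧸ θ.range → G := Quotient.out
  have ho : ∀ w, (o w : G ⧸ θ.range) = w := fun w => QuotientGroup.out_eq' w
  choose φ hφ1 hφ2 using fun w : G ⧸ θ.range => hst (o w)⁻¹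
  let r : G ⧸ θ.range → G := fun w => θ (x w) * o (base w)
  have hr : ∀ w, (r w : G ⧸ θ.range) = w := by
    intro w
    change ((θ (x w) * o (base w) : G) : G ⧸ θ.range) = w
    rw [← smul_eq_mul, ← MulAction.Quotient.smul_coe, ho, hx]
  have hbb : ∀ w, base (base w) = base w := fun w => by
    conv_rhs => rw [← hx w, hb]
  -- the point stabiliser
  have hmem : ∀ (s : S) w, (x (θ s • w))⁻¹ * s * x w ∈ Dom θ (o (base w))⁻¹ := by
    intro s w
    rw [mem_Dom]
    have h1 : θ ((x (θ s • w))⁻¹ * s * x w) • base w = base w := by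
      rw [map_mul, map_mul, map_inv, mul_smul, mul_smul, hx, inv_smul_eq_iff]
      conv_rhs => rw [← hb s w, hx]
    have h2 : ((θ ((x (θ s • w))⁻¹ * s * x w) * o (base w) : G) : G ⧸ θ.range) = (o (base w) : G ⧸ θ.range) := by
      rw [← smul_eq_mul, ← MulAction.Quotient.smul_coe, ho, h1]
    rw [inv_inv, mul_assoc]
    exact QuotientGroup.eq.1 h2.symm
  let fs : S → G ⧸ θ.range → S := fun s w => φ (base w) ⟨(x (θ s • w))⁻¹ * s * x w, hmem s w⟩
  have hfs : ∀ s w, θ s * r w = r (θ s • w) * θ (fs s w) := by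
    intro s w
    change θ s * (θ (x w) * o (base w)) = θ (x (θ s • w)) * o (base (θ s • w)) * θ (φ (base w) _)
    rw [hφ1, hb]
    simp only [map_mul, map_inv]
    group
  refine ⟨r, hr, ⟨⟨fun s => ⟨θ s, fs s, hfs s⟩, ?_⟩, ?_⟩, fun s => rfl, ?_⟩
  · refine E.ext' (map_one θ) fun w => ?_
    change φ (base w) ⟨(x (θ 1 • w))⁻¹ * 1 * x w, hmem 1 w⟩ = 1
    have h1 : (⟨(x (θ 1 • w))⁻¹ * 1 * x w, hmem 1 w⟩ : ↥(Dom θ (o (base w))⁻¹)) = 1 := by
      refine Subtype.ext ?_
      change (x (θ 1 • w))⁻¹ * 1 * x w = 1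
      rw [map_one, one_smul, mul_one, inv_mul_cancel]
    rw [h1, map_one]
  · intro s t
    refine E.ext' (map_mul θ s t) fun w => ?_
    change φ (base w) ⟨(x (θ (s * t) • w))⁻¹ * (s * t) * x w, hmem (s * t) w⟩ =
      φ (base (θ t • w)) ⟨(x (θ s • θ t • w))⁻¹ * s * x (θ t • w), hmem s (θ t • w)⟩ *
        φ (base w) ⟨(x (θ t • w))⁻¹ * t * x w, hmem t w⟩
    have h1 : ∀ (b : G ⧸ θ.range) (hb' : b = base w)
        (h : (x (θ s • θ t • w))⁻¹ * s * x (θ t • w) ∈ Dom θ (o b)⁻¹)
        (h' : (x (θ s • θ t • w))⁻¹ * s * x (θ t • w) ∈ Dom θ (o (base w))⁻¹),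
        φ b ⟨_, h⟩ = φ (base w) ⟨_, h'⟩ := by
      intro b hb'
      subst hb'
      intro _ _
      rfl
    have h2 := hmem s (θ t • w)
    rw [hb] at h2
    rw [h1 _ (hb t w) _ h2, ← map_mul]
    congr 1
    refine Subtype.ext ?_
    change (x (θ (s * t) • w))⁻¹ * (s * t) * x w = (x (θ s • θ t • w))⁻¹ * s * x (θ t • w) * ((x (θ t • w))⁻¹ * t * x w)
    rw [map_mul, mul_smul]
    group
  · intro s hs hsc w
    change φ (base w) ⟨(x (θ s • w))⁻¹ * s * x w, hmem s w⟩ = s
    have h0 : (x (θ s • w))⁻¹ * s * x w = s := by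
      rw [hs, one_smul, mul_assoc, ← Subgroup.mem_center_iff.1 hsc (x w), inv_mul_cancel_left]
    rw [hφ2 (base w) ⟨(x (θ s • w))⁻¹ * s * x w, hmem s w⟩ (by change θ ((x (θ s • w))⁻¹ * s * x w) = 1; rw [h0, hs])]
    exact h0

end Mono

section Main

variable {p : ℕ} [Fact p.Prime]

/-- **EXT**: a stable central extension of a Sylow `p`-subgroup of `G` by a `p`-group extends to `G`. -/
theorem exists_ext [Finite S] [Finite G] (hS : IsPGroup p S) (θ : S →* G) (hA : θ.ker ≤ Subgroup.center S)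
    (hT : ¬ p ∣ θ.range.index) (hst : Stable θ) :
    ∃ (r : G ⧸ θ.range → G) (j : S →* E θ r ⧸ E.K θ r hA) (π : (E θ r ⧸ E.K θ r hA) →* G),
      Function.Injective j ∧ Function.Surjective π ∧ (∀ s, π (j s) = θ s) ∧
      π.ker = θ.ker.map j ∧ π.ker ≤ Subgroup.center _ ∧ ¬ p ∣ j.range.index := by
  classical
  letI := Fintype.ofFinite (G ⧸ θ.range)
  obtain ⟨r, hr, j0, hj0, hj1⟩ := exists_lift θ hst
  have hcard : ¬ p ∣ Fintype.card (G ⧸ θ.range) := by
    rw [← Nat.card_eq_fintype_card]; exact hT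
  have hK : E.K θ r hA ≤ (E.pr : E θ r →* G).ker := fun e he => he.1
  let q : E θ r →* E θ r ⧸ E.K θ r hA := QuotientGroup.mk' _
  have hq : Function.Surjective q := QuotientGroup.mk'_surjective _
  let π : (E θ r ⧸ E.K θ r hA) →* G := QuotientGroup.lift _ E.pr hK
  have hπq : ∀ e, π (q e) = e.g := fun e => rfl
  let j : S →* E θ r ⧸ E.K θ r hA := q.comp j0
  have hπj : ∀ s, π (j s) = θ s := fun s => hj0 s
  -- an element of the kernel of `θ` goes to the constant function
  have hjK : ∀ s (hs : θ s = 1), j s = 1 → s = 1 := by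
    intro s hs h
    have hsc : s ∈ Subgroup.center S := hA hs
    have h1 : j0 s ∈ E.K θ r hA := (QuotientGroup.eq_one_iff _).1 h
    obtain ⟨-, a, ha, ha1⟩ := h1
    have h2 : ∀ w, a w = ⟨s, hsc⟩ := fun w => Subtype.ext (by rw [← ha, hj1 s hs hsc])
    rw [Finset.prod_congr rfl fun w _ => h2 w, Finset.prod_const, Finset.card_univ] at ha1
    have h3 : s ^ Fintype.card (G ⧸ θ.range) = 1 := congrArg Subtype.val ha1
    obtain ⟨k, hk⟩ := hS s
    have h4 : Nat.Coprime (Fintype.card (G ⧸ θ.range)) (p ^ k) :=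
      (((Fact.out : p.Prime).coprime_iff_not_dvd.2 hcard).symm).pow_right k
    have h5 := pow_gcd_eq_one.2 ⟨h3, hk⟩
    rwa [Nat.Coprime.gcd_eq_one h4, pow_one] at h5
  have hj : Function.Injective j := by
    rw [injective_iff_map_eq_one]
    intro s hs
    exact hjK s (by rw [← hπj, hs, map_one]) hs
  have hπ : Function.Surjective π := by
    intro g
    obtain ⟨e, he⟩ := E.pr_surjective hr g
    exact ⟨q e, he⟩
  -- the kernel of `π`
  have hker : π.ker = θ.ker.map j := by
    apply le_antisymm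
    · intro x hx
      obtain ⟨e, rfl⟩ := hq x
      have he : e.g = 1 := hx
      -- the values of `e` lie in the kernel
      have h1 : ∀ w, θ (e.f w) = 1 := by
        intro w
        have h2 := e.h w
        rw [he, one_mul, one_smul] at h2
        exact (mul_eq_left.1 h2.symm)
      let a : G ⧸ θ.range → Subgroup.center S := fun w => ⟨e.f w, hA (h1 w)⟩
      have hpa : θ ((∏ w, a w : Subgroup.center S) : S) = 1 := by
        have h3 : (∏ w, a w : Subgroup.center S) ∈ θ.ker.subgroupOf (Subgroup.center S) :=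
          Subgroup.prod_mem _ fun w _ => h1 w
        exact h3
      -- a root of the product
      obtain ⟨c, hc⟩ : ∃ c : θ.ker, c ^ Fintype.card (G ⧸ θ.range) = ⟨((∏ w, a w : Subgroup.center S) : S), hpa⟩ := by
        have h4 : (Nat.card θ.ker).Coprime (Fintype.card (G ⧸ θ.range)) := by
          obtain ⟨k, hk⟩ := (IsPGroup.iff_card (G := θ.ker)).1 (hS.to_subgroup θ.ker)
          rw [hk]
          exact ((Fact.out : p.Prime).coprime_iff_not_dvd.2 hcard).pow_left k
        exact (powCoprime h4).surjective _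
      have hcn : ((c : S)) ^ Fintype.card (G ⧸ θ.range) = ((∏ w, a w : Subgroup.center S) : S) := congrArg Subtype.val hc
      refine ⟨c, c.2, ?_⟩
      change q (j0 c) = q e
      rw [← inv_mul_eq_one, ← map_inv, ← map_mul]
      refine (QuotientGroup.eq_one_iff _).2 ⟨?_, fun w => ⟨(c : S)⁻¹, inv_mem (hA c.2)⟩ * a w, fun w => ?_, ?_⟩
      · rw [E.mul_g, E.inv_g, hj0, he, mul_one, inv_eq_one]; exact c.2
      · rw [E.mul_f, E.inv_f, hj0, he, one_smul]
        have h5 : θ (c : S) = 1 := c.2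
        rw [h5, inv_one, one_smul, hj1 _ h5 (hA c.2)]
        rfl
      · rw [Finset.prod_mul_distrib, Finset.prod_const, Finset.card_univ]
        refine Subtype.ext ?_
        change ((c : S)⁻¹) ^ Fintype.card (G ⧸ θ.range) * ((∏ w, a w : Subgroup.center S) : S) = 1
        rw [inv_pow, hcn, inv_mul_cancel]
    · rintro _ ⟨s, hs, rfl⟩
      exact (hπj s).trans hs
  refine ⟨r, j, π, hj, hπ, hπj, hker, ?_, ?_⟩
  · rw [hker]
    rintro _ ⟨s, hs, rfl⟩
    rw [Subgroup.mem_center_iff]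
    intro x
    obtain ⟨e, rfl⟩ := hq x
    change q e * q (j0 s) = q (j0 s) * q e
    rw [← map_mul, ← map_mul]
    congr 1
    have hsc := hA hs
    refine E.ext' ?_ fun w => ?_
    · rw [E.mul_g, E.mul_g, hj0, show θ s = 1 from hs, mul_one, one_mul]
    · rw [E.mul_f, E.mul_f, hj1 s hs hsc, hj1 s hs hsc, hj0, show θ s = 1 from hs, one_smul]
      exact Subgroup.mem_center_iff.1 hsc _
  · -- the index
    have h1 : Nat.card (E θ r ⧸ E.K θ r hA) = Nat.card π.ker * Nat.card G := by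
      rw [← Nat.card_congr (QuotientGroup.quotientKerEquivOfSurjective π hπ).toEquiv, mul_comm]
      exact Subgroup.card_eq_card_quotient_mul_card_subgroup _
    have h2 : Nat.card π.ker = Nat.card θ.ker := by
      rw [hker]
      exact (Nat.card_congr (θ.ker.equivMapOfInjective j hj).toEquiv).symm
    have h3 : Nat.card S = Nat.card θ.ker * Nat.card θ.range := by
      rw [← Nat.card_congr (QuotientGroup.quotientKerEquivRange θ).toEquiv, mul_comm]
      exact Subgroup.card_eq_card_quotient_mul_card_subgroup _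
    have h4 : Nat.card j.range = Nat.card S := (Nat.card_congr (MonoidHom.ofInjective hj).toEquiv).symm
    have h5 := j.range.index_mul_card
    have h6 := θ.range.index_mul_card
    rw [h4, h1, h2, h3, ← h6] at h5
    have h7 : j.range.index = θ.range.index := by
      have h8 : 0 < Nat.card θ.ker * Nat.card θ.range := Nat.mul_pos Nat.card_pos Nat.card_pos
      apply Nat.eq_of_mul_eq_mul_right h8
      rw [h5]
      ring
    rw [h7]
    exact hT

end Main

end Cfsg.Agent.H497.FX
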