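import Cfsg.Prelude.Def_FusionComponents
import Cfsg.Agent.H497.FX.Ext

/-!
# EXT for fusion systems (helper497, part of S5242)

If `F/A` is the fusion system of `G` on a Sylow subgroup and `A` is central in `F` then there is a central extension `L` of `G` by `A`
containing `S`, compatible with `S → S/A`.
-/

set_option autoImplicit false

universe u

namespace Cfsg.Agent.H497.FX

open Cfsg

section Cent

variable {Ω : Type*} [Group Ω] {S : Subgroup Ω} {F : FusionSystem S} {A : Subgroup Ω}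

/-- a map defined on the central subgroup fixes it -/
theorem fix_of_central (hA : F.IsCentral A) {P : Subgroup Ω} {φ : P →* Ω} (hφ : φ ∈ F.Hom P) (hAP : A ≤ P) (x : P)
    (hx : (x : Ω) ∈ A) : φ x = x := by
  obtain ⟨ψ, -, h1, h2⟩ := hA.2 P φ hφ
  have h3 := h1 x
  have h4 := h2 ⟨x, hx⟩
  rw [← h3]
  exact h4

theorem comm_of_central (hA : F.IsCentral A) {a s : Ω} (ha : a ∈ A) (hs : s ∈ S) : s * a = a * s := by
  have h1 : conjHom S s ∈ F.Hom S := F.conj_mem le_rfl hs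
  have h2 := fix_of_central hA h1 hA.1 ⟨a, hA.1 ha⟩ ha
  change s * a * s⁻¹ = a at h2
  rwa [mul_inv_eq_iff_eq_mul] at h2

end Cent

variable {Ω : Type u} [Group Ω] {S : Subgroup Ω} {F : FusionSystem S} {A : Subgroup Ω}

/-- the extension `S → S/A` is stable in `G` -/
theorem stable_of_factor (hA : F.IsCentral A) {G : Type*} [Group G] (T : Subgroup G) (th : S →* G)
    (hE : F.IsFactorSystem A th (groupFusionSystem T)) : Stable th := by
  intro g
  obtain ⟨hAS, hker, hran, hmap⟩ := hE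
  let P' : Subgroup G := T ⊓ T.comap (MulAut.conj g).toMonoidHom
  have hP' : ∀ {x : G}, x ∈ P' ↔ x ∈ T ∧ g * x * g⁻¹ ∈ T := Iff.rfl
  have hφ' : conjHom P' g ∈ (groupFusionSystem T).Hom P' :=
    ⟨inf_le_left, fun x => (hP'.1 x.2).2, g, fun x => rfl⟩
  obtain ⟨-, φ, hφ, hP, hφS, hα, hind⟩ := (hmap P' _).1 hφ'
  have hdom : ∀ x : ↥(Dom th g), ((x : S) : Ω) ∈ FusionSystem.preimageAlong th P' := by
    rintro ⟨x, hx⟩
    refine ⟨x, ?_, rfl⟩
    have h1 : g * th x * g⁻¹ ∈ th.range := hx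
    rw [hran] at h1
    exact hP'.2 ⟨by rw [← hran]; exact ⟨x, rfl⟩, h1⟩
  refine ⟨⟨⟨fun x => ⟨φ ⟨((x : S) : Ω), hdom x⟩, hφS _⟩, ?_⟩, ?_⟩, ?_, ?_⟩
  · refine Subtype.ext ?_
    change φ ⟨((1 : S) : Ω), _⟩ = 1
    exact map_one φ
  · intro x y
    refine Subtype.ext ?_
    change φ ⟨((x * y : ↥(Dom th g)) : S), _⟩ = φ ⟨((x : S) : Ω), hdom x⟩ * φ ⟨((y : S) : Ω), hdom y⟩
    rw [← map_mul]
    rfl
  · intro x
    exact (hind ⟨((x : S) : Ω), hdom x⟩).symm
  · intro x hx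
    refine Subtype.ext ?_
    have h1 : ((x : S) : Ω) ∈ A := (hker _).1 hx
    refine fix_of_central hA hφ ?_ ⟨((x : S) : Ω), hdom x⟩ h1
    intro a ha
    refine ⟨⟨a, hAS ha⟩, ?_, rfl⟩
    have h2 : th ⟨a, hAS ha⟩ = 1 := (hker _).2 ha
    change th ⟨a, hAS ha⟩ ∈ P'
    rw [h2]
    exact one_mem _

/-- **EXT** -/
theorem exists_ext_fusion {p : ℕ} [Fact p.Prime] [Finite S] (hS : IsPGroup p S) (hA : F.IsCentral A) {G : Type u} [Group G]
    [Finite G] (T : Sylow p G) (th : S →* G) (hE : F.IsFactorSystem A th (groupFusionSystem (T : Subgroup G))) :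
    ∃ (L : Type u) (_ : Group L) (_ : Finite L) (q : L →* G) (j : S →* L), Function.Surjective q ∧ Function.Injective j ∧
      (∀ s, q (j s) = th s) ∧ (∀ x, q x = 1 ↔ ∃ a : S, (a : Ω) ∈ A ∧ j a = x) ∧ (∀ x, q x = 1 → x ∈ Subgroup.center L) ∧
      ¬ p ∣ j.range.index := by
  have hst := stable_of_factor hA (T : Subgroup G) th hE
  obtain ⟨hAS, hker, hran, -⟩ := hE
  have hkerZ : th.ker ≤ Subgroup.center S := by
    intro a ha
    rw [Subgroup.mem_center_iff]
    intro s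
    exact Subtype.ext (comm_of_central hA ((hker a).1 ha) s.2)
  have hT : ¬ p ∣ th.range.index := by rw [hran]; exact T.not_dvd_index
  obtain ⟨r, j, π, h1, h2, h3, h4, h5, h6⟩ := exists_ext hS th hkerZ hT hst
  refine ⟨_, inferInstance, inferInstance, π, j, h2, h1, h3, fun x => ?_, fun x hx => h5 hx, h6⟩
  rw [← MonoidHom.mem_ker, h4, Subgroup.mem_map]
  constructor
  · rintro ⟨a, ha, rfl⟩
    exact ⟨a, (hker a).1 ha, rfl⟩
  · rintro ⟨a, ha, rfl⟩
    exact ⟨a, (hker a).2 ha, rfl⟩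

end Cfsg.Agent.H497.FX
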